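import Mathlib

/-!
The locus where two maps into an unramified scheme agree is open.
-/

universe u

open AlgebraicGeometry CategoryTheory Limits

namespace Groth.Agent.FlatMorUnr

theorem exists_opens_eq_of_agree {X Y S : Scheme.{u}} (p : Y ⟶ S) [FormallyUnramified p]
    [LocallyOfFiniteType p] (f g : X ⟶ Y) (hfg : f ≫ p = g ≫ p) (x : X)
    (h : X.fromSpecResidueField x ≫ f = X.fromSpecResidueField x ≫ g) :
    ∃ U : X.Opens, x ∈ U ∧ U.ι ≫ f = U.ι ≫ g := by
  let m : X ⟶ pullback p p := pullback.lift f g hfg
  let j := pullback.fst m (pullback.diagonal p)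
  haveI : IsOpenImmersion j := inferInstance
  have hj : j ≫ f = j ≫ g := by
    have hc := pullback.condition (f := m) (g := pullback.diagonal p)
    have h1 := congrArg (· ≫ pullback.fst p p) hc
    have h2 := congrArg (· ≫ pullback.snd p p) hc
    simp only [m, Category.assoc, pullback.lift_fst, pullback.lift_snd, pullback.diagonal_fst,
      pullback.diagonal_snd, Category.comp_id] at h1 h2
    exact h1.trans h2.symm
  refine ⟨j.opensRange, ?_, ?_⟩
  · let l : Spec (X.residueField x) ⟶ pullback m (pullback.diagonal p) :=
      pullback.lift (X.fromSpecResidueField x) (X.fromSpecResidueField x ≫ f) (by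
        apply pullback.hom_ext <;>
          simp only [m, Category.assoc, pullback.lift_fst, pullback.lift_snd,
            pullback.diagonal_fst, pullback.diagonal_snd, Category.comp_id]
        exact h.symm)
    refine ⟨l (IsLocalRing.closedPoint _), ?_⟩
    change (l ≫ j) (IsLocalRing.closedPoint _) = x
    rw [pullback.lift_fst]
    exact X.fromSpecResidueField_apply x _
  · rw [← cancel_epi j.isoOpensRange.hom]
    simpa only [Scheme.Hom.isoOpensRange_hom_ι_assoc] using hj

theorem fromSpecResidueField_comp_eq {X Y : Scheme.{u}} (f g : X ⟶ Y) (x : X) (h1 : f x = g x)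
    (h2 : f.residueFieldMap x = (Y.residueFieldCongr h1).hom ≫ g.residueFieldMap x) :
    X.fromSpecResidueField x ≫ f = X.fromSpecResidueField x ≫ g := by
  rw [← f.SpecMap_residueFieldMap_fromSpecResidueField, ← g.SpecMap_residueFieldMap_fromSpecResidueField,
    h2, Spec.map_comp, Category.assoc, Scheme.residueFieldCongr_fromSpecResidueField]

theorem isIso_residueFieldCongr_comp {X Y : Scheme.{u}} (f g : X ⟶ Y) (x : X) (y : Y)
    (e₁ : f x = y) (e₂ : g x = y)
    (hres : (Y.residueFieldCongr e₁).inv ≫ f.residueFieldMap x =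
      (Y.residueFieldCongr e₂).inv ≫ g.residueFieldMap x) :
    f.residueFieldMap x = (Y.residueFieldCongr (e₁.trans e₂.symm)).hom ≫ g.residueFieldMap x := by
  rw [Iso.inv_comp_eq] at hres
  rw [hres, ← Category.assoc, Scheme.residueFieldCongr_inv, Scheme.residueFieldCongr_trans_hom]

end Groth.Agent.FlatMorUnr
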